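import Mathlib

/-!
# Pro-representable limit-preserving functors are corepresentable
-/

universe v u
open CategoryTheory CategoryTheory.Limits Opposite

namespace GrothLib.ProRep20

variable {C : Type u} [Category.{v} C] (F : C ⥤ Type v)

theorem isIndObject_of_isCorepresentable [F.IsCorepresentable] :
    IsIndObject (unopUnop C ⋙ F) := by
  let e : yoneda.obj (op F.coreprX) ≅ unopUnop C ⋙ F :=
    NatIso.ofComponents
      (fun Y => Equiv.toIso ((opEquiv Y.unop (op F.coreprX)).trans F.corepresentableBy.homEquiv))
      (fun {Y Y'} g => by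
        ext f
        exact F.corepresentableBy.homEquiv_comp g.unop.unop f.unop)
  exact IsIndObject.map e.hom (isIndObject_yoneda _)

theorem preservesLimits_of_isCorepresentable [F.IsCorepresentable] :
    PreservesLimitsOfSize.{v, v} F :=
  preservesLimits_of_natIso F.coreprW

theorem isCorepresentable_of_isIndObject [HasLimitsOfSize.{v, v} C]
    (h : IsIndObject (unopUnop C ⋙ F)) [PreservesLimitsOfSize.{v, v} F] : F.IsCorepresentable := by
  obtain ⟨⟨P⟩⟩ := h
  let B : P.I → F.Elements := fun i =>
    F.elementsMk (P.F.obj i).unop (yonedaEquiv (P.ι.app i))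
  have hB : ∀ E : F.Elements, ∃ i, Nonempty (B i ⟶ E) := by
    intro E
    obtain ⟨i, f, hf⟩ := Types.jointly_surjective _
      (isColimitOfPreserves ((evaluation (Cᵒᵖ)ᵒᵖ (Type v)).obj (op (op E.1))) P.isColimit) E.2
    have hnat := congrFun (congrArg (fun t => (ConcreteCategory.hom t : _ → _))
      ((P.ι.app i).naturality f.op)) (𝟙 _)
    refine ⟨i, ⟨⟨f.unop, ?_⟩⟩⟩
    simp only [Functor.comp_obj, Functor.const_obj_obj, ConcreteCategory.comp_apply] at hnat
    simp [B, ← hf] at hnat ⊢
    exact hnat.symm
  obtain ⟨T, hT⟩ := has_weakly_initial_of_weakly_initial_set_and_hasProducts hB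
  have := hasInitial_of_weakly_initial_and_hasWideEqualizers hT
  exact Functor.Elements.isCorepresentable_of_hasInitial F

theorem isCorepresentable_iff [HasLimitsOfSize.{v, v} C] :
    F.IsCorepresentable ↔ IsIndObject (unopUnop C ⋙ F) ∧ PreservesLimitsOfSize.{v, v} F :=
  ⟨fun _ => ⟨isIndObject_of_isCorepresentable F, preservesLimits_of_isCorepresentable F⟩,
    fun ⟨h, _⟩ => isCorepresentable_of_isIndObject F h⟩

end GrothLib.ProRep20
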